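import Mathlib
import Cfsg.Agent.H336.LinFive
import Cfsg.Agent.GH.WRank
import Cfsg.Agent.GTwoFour.Tools
import Cfsg.Agent.S0501

/-!
# 2-groups of normal rank two
-/

set_option autoImplicit false

namespace Cfsg.Agent.H336.NormFour

open Subgroup Cfsg Cfsg.Agent.H336.OddNorm Cfsg.Agent.H336.LinFive

theorem card_closure_le {T : Type*} [Group T] {a b : T} (hab : a * b = b * a) (ha : a * a = 1) (hb : b * b = 1) :
    Nat.card (closure ({a, b} : Set T)) ≤ 4 := by
  classical
  have h1 : (closure ({a, b} : Set T) : Set T) ⊆ (({1, a, b, a * b} : Finset T) : Set T) := by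
    intro x hx
    have hx' : x ∈ closure ({a, b} : Set T) := hx
    simp only [Finset.coe_insert, Finset.coe_singleton, Set.mem_insert_iff, Set.mem_singleton_iff]
    have haa : a⁻¹ = a := inv_eq_of_mul_eq_one_left ha
    have hbb : b⁻¹ = b := inv_eq_of_mul_eq_one_left hb
    induction hx' using closure_induction with
    | mem x h =>
      rcases h with h | h
      · exact Or.inr (Or.inl h)
      · exact Or.inr (Or.inr (Or.inl h))
    | one => exact Or.inl rfl
    | mul x y _ _ ihx ihy =>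
      have e1 : b * (a * b) = a := by rw [hab, ← mul_assoc, hb, one_mul]
      have e2 : a * (a * b) = b := by rw [← mul_assoc, ha, one_mul]
      have e3 : a * b * a = b := by rw [hab, mul_assoc, ha, mul_one]
      have e4 : a * b * b = a := by rw [mul_assoc, hb, mul_one]
      have e5 : a * b * (a * b) = 1 := by rw [← mul_assoc, e3, hb]
      rcases ihx (by assumption) with rfl | rfl | rfl | rfl <;>
        rcases ihy (by assumption) with rfl | rfl | rfl | rfl <;> simp_all
    | inv x _ ih =>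
      rcases ih (by assumption) with rfl | rfl | rfl | rfl
      · simp
      · simp [haa]
      · simp [hbb]
      · right; right; right
        rw [mul_inv_rev, haa, hbb, hab]
  have h2 : Nat.card (closure ({a, b} : Set T)) = (closure ({a, b} : Set T) : Set T).ncard := rfl
  rw [h2]
  calc (closure ({a, b} : Set T) : Set T).ncard ≤ (({1, a, b, a * b} : Finset T) : Set T).ncard :=
        Set.ncard_le_ncard h1 (Finset.finite_toSet _)
    _ = ({1, a, b, a * b} : Finset T).card := Set.ncard_coe_finset _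
    _ ≤ 4 := Finset.card_le_four

section group

variable {T : Type*} [Group T]
  (hd2 : ∀ A : Subgroup T, A.Normal → IsMulCommutative ↥A → ∃ a b : T, closure {a, b} = A)

include hd2 in
theorem elem_le_four (A : Subgroup T) (hA : A.Normal) (hc : IsMulCommutative A) (h2 : ∀ a ∈ A, a ^ 2 = 1) :
    Nat.card A ≤ 4 := by
  obtain ⟨a, b, rfl⟩ := hd2 A hA hc
  have ha : a ∈ closure ({a, b} : Set T) := subset_closure (by simp)
  have hb : b ∈ closure ({a, b} : Set T) := subset_closure (by simp)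
  exact card_closure_le (congrArg Subtype.val (hc.is_comm.comm (⟨a, ha⟩ : closure ({a, b} : Set T)) ⟨b, hb⟩))
    (by rw [← pow_two, h2 a ha]) (by rw [← pow_two, h2 b hb])

include hd2 in
theorem sectional [Finite T] (hT : IsPGroup 2 T) : SectionalPRankLE 2 4 T :=
  Cfsg.Agent.S0501.result hT fun A hA hc h2 => elem_le_four hd2 A hA hc h2

include hd2 in
theorem exists_four [Finite T] (hT : IsPGroup 2 T)
    (hd2' : ∃ A : Subgroup T, A.Normal ∧ IsMulCommutative ↥A ∧ ¬ IsCyclic ↥A) :
    ∃ v1 v2 : T, v1 ≠ 1 ∧ v2 ≠ 1 ∧ v1 ≠ v2 ∧ v1 * v1 = 1 ∧ v2 * v2 = 1 ∧ v1 * v2 = v2 * v1 ∧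
      ∀ s : T, (s * s) * v1 = v1 * (s * s) ∧ (s * s) * v2 = v2 * (s * s) := by
  have : Fact (Nat.Prime 2) := ⟨Nat.prime_two⟩
  obtain ⟨A, hAn, hAc, hAcy⟩ := hd2'
  have hcomm : ∀ x y : A, x * y = y * x := fun x y => hAc.is_comm.comm x y
  obtain ⟨N, -, hN2, hN4⟩ := Cfsg.Agent.GH.WRank.exists_four (hT.to_subgroup A) hAcy
  let sq : A →* A :=
    { toFun := fun x => x * x
      map_one' := mul_one 1
      map_mul' := fun x y => by
        calc x * y * (x * y) = x * (y * x) * y := by group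
          _ = x * (x * y) * y := by rw [hcomm y x]
          _ = x * x * (y * y) := by group }
  have hsq : ∀ x, sq x = x * x := fun x => rfl
  have hker : 4 ≤ Nat.card sq.ker := by
    have h1 : Nat.card sq.range ≤ Nat.card N := by
      apply Nat.le_of_dvd Nat.card_pos
      apply card_dvd_of_le
      rintro _ ⟨x, rfl⟩
      rw [hsq, ← pow_two]
      exact hN2 x
    have h2 := sq.ker.card_mul_index
    rw [index_ker] at h2
    have h3 : 0 < Nat.card sq.range := Nat.card_pos
    by_contra hcon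
    push Not at hcon
    have h4 : Nat.card sq.ker * Nat.card sq.range < 4 * Nat.card sq.range := Nat.mul_lt_mul_of_pos_right hcon h3
    have h5 : 4 * Nat.card sq.range ≤ 4 * Nat.card N := Nat.mul_le_mul_left 4 h1
    omega
  set V : Subgroup T := sq.ker.map A.subtype with hV
  have hmemV : ∀ x : T, x ∈ V ↔ x ∈ A ∧ x * x = 1 := by
    intro x
    constructor
    · rintro ⟨y, hy, rfl⟩
      refine ⟨y.2, ?_⟩
      have h1 : y * y = 1 := hy
      exact congrArg Subtype.val h1
    · rintro ⟨h1, h2⟩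
      exact ⟨⟨x, h1⟩, Subtype.ext h2, rfl⟩
  have hVc : IsMulCommutative V := ⟨⟨fun x y => by
    apply Subtype.ext
    have h1 := ((hmemV x).1 x.2).1
    have h2 := ((hmemV y).1 y.2).1
    exact congrArg (Subtype.val : A → T) (hcomm ⟨x, h1⟩ ⟨y, h2⟩)⟩⟩
  have hVn : V.Normal := ⟨fun x hx g => by
    rw [hmemV] at hx ⊢
    refine ⟨hAn.conj_mem x hx.1 g, ?_⟩
    calc g * x * g⁻¹ * (g * x * g⁻¹) = g * (x * x) * g⁻¹ := by group
      _ = 1 := by rw [hx.2]; group⟩
  have hVcard : Nat.card V = 4 := by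
    apply le_antisymm
    · exact elem_le_four hd2 V hVn hVc (fun a ha => by rw [pow_two]; exact ((hmemV a).1 ha).2)
    · rw [hV, Subgroup.card_map_of_injective A.subtype_injective]
      exact hker
  have hV1 : V ≠ ⊥ := by
    intro h
    rw [h, Subgroup.card_bot] at hVcard
    omega
  obtain ⟨v1, hv1, hv1c, hv11⟩ := Cfsg.Agent.GTwoFour.Tools.exists_mem_center_of_normal hT V hV1
  obtain ⟨v2, hv2, hv21, hv22⟩ : ∃ v2 ∈ V, v2 ≠ 1 ∧ v2 ≠ v1 := by
    by_contra hcon
    push Not at hcon
    have h1 : (V : Set T) ⊆ ({1, v1} : Set T) := by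
      intro x hx
      by_cases h : x = 1
      · exact Or.inl h
      · exact Or.inr (hcon x hx h)
    have h2 : (V : Set T).ncard ≤ 2 :=
      (Set.ncard_le_ncard h1 (Set.toFinite _)).trans (Set.ncard_insert_le _ _ |>.trans (by rw [Set.ncard_singleton]))
    have h3 : (V : Set T).ncard = 4 := hVcard
    omega
  have q1 : v1 * v1 = 1 := ((hmemV v1).1 hv1).2
  have q2 : v2 * v2 = 1 := ((hmemV v2).1 hv2).2
  have hz : ∀ s, s * v1 = v1 * s := fun s => mem_center_iff.1 hv1c s
  have hall : ∀ x ∈ V, x = 1 ∨ x = v1 ∨ x = v2 ∨ x = v1 * v2 := by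
    intro x hx
    by_contra hcon
    push Not at hcon
    obtain ⟨h1, h2, h3, h4⟩ := hcon
    have h12 : v1 * v2 ∈ V := mul_mem hv1 hv2
    have h5 : ({1, v1, v2, v1 * v2, x} : Set T) ⊆ (V : Set T) := by
      intro y hy
      rcases hy with rfl | rfl | rfl | rfl | rfl
      · exact one_mem _
      · exact hv1
      · exact hv2
      · exact h12
      · exact hx
    have h6 : ({1, v1, v2, v1 * v2, x} : Set T).ncard = 5 := by
      have n1 : v1 * v2 ≠ 1 := by
        intro h
        exact hv22 (mul_left_cancel (h.trans q1.symm))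
      have n2 : v1 * v2 ≠ v1 := fun h => hv21 (mul_eq_left.1 h)
      have n3 : v1 * v2 ≠ v2 := fun h => hv11 (mul_eq_right.1 h)
      rw [Set.ncard_insert_of_notMem, Set.ncard_insert_of_notMem, Set.ncard_insert_of_notMem,
        Set.ncard_insert_of_notMem, Set.ncard_singleton]
      · simpa using h4.symm
      · simp only [Set.mem_insert_iff, Set.mem_singleton_iff, not_or]
        exact ⟨n3.symm, h3.symm⟩
      · simp only [Set.mem_insert_iff, Set.mem_singleton_iff, not_or]
        exact ⟨hv22.symm, n2.symm, h2.symm⟩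
      · simp only [Set.mem_insert_iff, Set.mem_singleton_iff, not_or]
        exact ⟨hv11.symm, hv21.symm, n1.symm, h1.symm⟩
    have h7 := Set.ncard_le_ncard h5 (Set.toFinite _)
    have h8 : (V : Set T).ncard = 4 := hVcard
    omega
  refine ⟨v1, v2, hv11, hv21, hv22.symm, q1, q2, (hz v2).symm, fun s => ⟨hz _, ?_⟩⟩
  have h1 : s * v2 * s⁻¹ ∈ V := hVn.conj_mem v2 hv2 s
  have hkey : s * v2 * s⁻¹ = v2 ∨ s * v2 * s⁻¹ = v1 * v2 := by
    rcases hall _ h1 with h | h | h | h
    · exfalso
      apply hv21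
      calc v2 = s⁻¹ * (s * v2 * s⁻¹) * s := by group
        _ = 1 := by rw [h]; group
    · exfalso
      apply hv22
      calc v2 = s⁻¹ * (s * v2 * s⁻¹) * s := by group
        _ = s⁻¹ * (v1 * s) := by rw [h]; group
        _ = v1 := by rw [← hz s]; group
    · exact Or.inl h
    · exact Or.inr h
  rw [← mul_inv_eq_iff_eq_mul]
  rcases hkey with h | h
  · calc s * s * v2 * (s * s)⁻¹ = s * (s * v2 * s⁻¹) * s⁻¹ := by group
      _ = v2 := by rw [h, h]
  · calc s * s * v2 * (s * s)⁻¹ = s * (s * v2 * s⁻¹) * s⁻¹ := by group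
      _ = (s * v1) * v2 * s⁻¹ := by rw [h]; group
      _ = v1 * (s * v2 * s⁻¹) := by rw [hz s]; group
      _ = v2 := by rw [h, ← mul_assoc, q1, one_mul]

end group

/-- the condition on the Sylow 2-subgroup of the groups of dimension five -/
theorem exists_fourSq {G H : Type*} [Group G] [Finite G] [Group H] (e : G ≃* H) (T : Sylow 2 G)
    (hd2 : ∀ A : Subgroup ↥T, A.Normal → IsMulCommutative ↥A → ∃ a b : ↥T, Subgroup.closure {a, b} = A)
    (hd2' : ∃ A : Subgroup ↥T, A.Normal ∧ IsMulCommutative ↥A ∧ ¬ IsCyclic ↥A) :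
    ∃ S : Sylow 2 H, FourSq S := by
  have : Fact (Nat.Prime 2) := ⟨Nat.prime_two⟩
  obtain ⟨v1, v2, n1, n2, n12, q1, q2, q12, hs⟩ := exists_four hd2 T.2 hd2'
  have hinj : ∀ a b : ↥(T : Subgroup G), a ≠ b → e a ≠ e b := fun a b h he =>
    h (Subtype.ext (e.injective he))
  refine ⟨T.mapSurjective (f := e.toMonoidHom) e.surjective, e v1, ⟨v1, v1.2, rfl⟩, e v2, ⟨v2, v2.2, rfl⟩,
    ?_, ?_, hinj _ _ n12, ?_, ?_, ?_, ?_⟩
  · have := hinj _ _ n1
    rwa [Subgroup.coe_one, map_one] at this
  · have := hinj _ _ n2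
    rwa [Subgroup.coe_one, map_one] at this
  · rw [← map_mul, ← Subgroup.coe_mul, q1, Subgroup.coe_one, map_one]
  · rw [← map_mul, ← Subgroup.coe_mul, q2, Subgroup.coe_one, map_one]
  · rw [← map_mul, ← map_mul, ← Subgroup.coe_mul, ← Subgroup.coe_mul, q12]
  · rintro _ ⟨s, hsT, rfl⟩
    obtain ⟨h1, h2⟩ := hs ⟨s, hsT⟩
    have h3 : s * s * (v1 : G) = v1 * (s * s) := congrArg Subtype.val h1
    have h4 : s * s * (v2 : G) = v2 * (s * s) := congrArg Subtype.val h2
    change e s * e s * e v1 = e v1 * (e s * e s) ∧ e s * e s * e v2 = e v2 * (e s * e s)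
    rw [← map_mul, ← map_mul, ← map_mul, ← map_mul, ← map_mul, h3, h4]
    exact ⟨rfl, rfl⟩

end Cfsg.Agent.H336.NormFour
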