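import Mathlib
import Cfsg.Agent.H336.AltEleven
import Cfsg.Agent.GH.Defs
import Cfsg.Agent.S0243
import Cfsg.Agent.S0245
import Cfsg.Agent.S0246
import Cfsg.Agent.S0280

/-!
# Orders of Sylow 2-subgroups
-/

set_option autoImplicit false

namespace Cfsg.Agent.H336.Ord

open Subgroup Cfsg Cfsg.Agent.GH.Defs Cfsg.Agent.H336.AltEleven

theorem card_sylow {G : Type*} [Group G] [Finite G] (T : Sylow 2 G) {a m : ℕ} (h : Nat.card G = 2 ^ a * m)
    (hm : Odd m) : Nat.card T = 2 ^ a := by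
  have : Fact (Nat.Prime 2) := ⟨Nat.prime_two⟩
  rw [T.card_eq_multiplicity, fact_two h hm]

theorem gcd_four (k : ℕ) : Nat.gcd 4 (4 * k + 2) = 2 := by
  have h : (4 * k + 2) % 4 = 2 := by omega
  rw [Nat.gcd_rec, h]
  decide

theorem ar3 (m : ℕ) : (8 * m + 3) ^ 2 - 1 = 8 * ((4 * m + 1) * (2 * m + 1)) ∧
    (8 * m + 3) ^ 4 - 1 = 16 * ((4 * m + 1) * (2 * m + 1) * (2 * (16 * m ^ 2 + 12 * m + 2) + 1)) := by
  constructor
  · apply Nat.sub_eq_of_eq_add
    ring
  · apply Nat.sub_eq_of_eq_add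
    ring

theorem ar5 (m : ℕ) : (8 * m + 5) ^ 2 - 1 = 8 * ((4 * m + 3) * (2 * m + 1)) ∧
    (8 * m + 5) ^ 4 - 1 = 16 * ((4 * m + 3) * (2 * m + 1) * (2 * (16 * m ^ 2 + 20 * m + 6) + 1)) := by
  constructor
  · apply Nat.sub_eq_of_eq_add
    ring
  · apply Nat.sub_eq_of_eq_add
    ring

theorem odd_a (k : ℕ) : Odd (2 * k + 1) := ⟨k, rfl⟩

theorem odd_4m1 (m : ℕ) : Odd (4 * m + 1) := ⟨2 * m, by ring⟩

theorem odd_4m3 (m : ℕ) : Odd (4 * m + 3) := ⟨2 * m + 1, by ring⟩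

theorem card_psp4 {F : Type*} [Field F] [Fintype F] {q : ℕ} (hF : Fintype.card F = q) (hq : Odd q) :
    2 * Nat.card (PSp 2 F) = q ^ 4 * ((q ^ 2 - 1) * (q ^ 4 - 1)) := by
  have h1 := Cfsg.Agent.S0245.result hF 2
  have h2 := Cfsg.Agent.S0246.result hF 2 (by norm_num)
  have h3 : Nat.gcd 2 (q - 1) = 2 := Nat.gcd_eq_left (by
    obtain ⟨k, hk⟩ := hq
    exact ⟨k, by omega⟩)
  rw [h3] at h2
  have h4 := Subgroup.card_mul_index (center (Matrix.symplecticGroup (Fin 2) F))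
  rw [h2, h1] at h4
  have h5 : (center (Matrix.symplecticGroup (Fin 2) F)).index = Nat.card (PSp 2 F) := rfl
  rw [h5] at h4
  rw [h4, Finset.prod_range_succ, Finset.prod_range_succ, Finset.prod_range_zero]
  norm_num

theorem psp4 {G : Type*} [Group G] [Finite G] (T : Sylow 2 G) {F : Type*} [Field F] [Fintype F]
    (e : G ≃* PSp 2 F) (hq : Fintype.card F % 8 = 3 ∨ Fintype.card F % 8 = 5) : Nat.card T = 64 := by
  have ho : Odd (Fintype.card F) := by rw [Nat.odd_iff]; omega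
  have h1 := card_psp4 (F := F) rfl ho
  rw [← Nat.card_congr e.toEquiv] at h1
  rcases hq with hq | hq
  · obtain ⟨m, hm⟩ : ∃ m, Fintype.card F = 8 * m + 3 := ⟨Fintype.card F / 8, by omega⟩
    have ho' : Odd (8 * m + 3) := by rw [← hm]; exact ho
    rw [hm, (ar3 m).1, (ar3 m).2] at h1
    exact card_sylow T (a := 6) (m := (8 * m + 3) ^ 4 * (((4 * m + 1) * (2 * m + 1)) *
      ((4 * m + 1) * (2 * m + 1) * (2 * (16 * m ^ 2 + 12 * m + 2) + 1)))) (by
        apply Nat.eq_of_mul_eq_mul_left (show 0 < 2 by norm_num)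
        rw [h1]; ring) ((ho'.pow).mul (((odd_4m1 m).mul (odd_a m)).mul
          (((odd_4m1 m).mul (odd_a m)).mul (odd_a _))))
  · obtain ⟨m, hm⟩ : ∃ m, Fintype.card F = 8 * m + 5 := ⟨Fintype.card F / 8, by omega⟩
    have ho' : Odd (8 * m + 5) := by rw [← hm]; exact ho
    rw [hm, (ar5 m).1, (ar5 m).2] at h1
    exact card_sylow T (a := 6) (m := (8 * m + 5) ^ 4 * (((4 * m + 3) * (2 * m + 1)) *
      ((4 * m + 3) * (2 * m + 1) * (2 * (16 * m ^ 2 + 20 * m + 6) + 1)))) (by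
        apply Nat.eq_of_mul_eq_mul_left (show 0 < 2 by norm_num)
        rw [h1]; ring) ((ho'.pow).mul (((odd_4m3 m).mul (odd_a m)).mul
          (((odd_4m3 m).mul (odd_a m)).mul (odd_a _))))

theorem psl4 {G : Type*} [Group G] [Finite G] (T : Sylow 2 G) {F : Type*} [Field F] [Fintype F]
    (e : G ≃* Matrix.ProjectiveSpecialLinearGroup (Fin 4) F)
    (hq : Fintype.card F % 8 = 3 ∨ Fintype.card F % 8 = 5) : Nat.card T = 128 := by
  have ho : Odd (Fintype.card F) := by rw [Nat.odd_iff]; omega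
  have h1 := Cfsg.Agent.S0243.result (F := F) rfl 4 (by norm_num)
  rw [← Nat.card_congr e.toEquiv] at h1
  rcases hq with hq | hq
  · obtain ⟨m, hm⟩ : ∃ m, Fintype.card F = 8 * m + 3 := ⟨Fintype.card F / 8, by omega⟩
    have ho' : Odd (8 * m + 3) := by rw [← hm]; exact ho
    rw [hm, Fin.prod_univ_four] at h1
    have hg : Nat.gcd 4 (8 * m + 3 - 1) = 2 := by
      have : 8 * m + 3 - 1 = 4 * (2 * m) + 2 := by omega
      rw [this, gcd_four]
    have e0 : (8 * m + 3) ^ 4 - (8 * m + 3) ^ ((0 : Fin 4) : ℕ) =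
        16 * ((4 * m + 1) * (2 * m + 1) * (2 * (16 * m ^ 2 + 12 * m + 2) + 1)) := (ar3 m).2
    have e1 : (8 * m + 3) ^ 4 - (8 * m + 3) ^ ((1 : Fin 4) : ℕ) =
        (8 * m + 3) * (2 * (4 * m + 1) * (2 * (32 * m ^ 2 + 28 * m + 6) + 1)) := by
      apply Nat.sub_eq_of_eq_add
      simp only [Fin.val_one, pow_one]
      ring
    have e2 : (8 * m + 3) ^ 4 - (8 * m + 3) ^ ((2 : Fin 4) : ℕ) =
        (8 * m + 3) ^ 2 * (8 * ((4 * m + 1) * (2 * m + 1))) := by
      apply Nat.sub_eq_of_eq_add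
      simp only [Fin.val_two]
      ring
    have e3 : (8 * m + 3) ^ 4 - (8 * m + 3) ^ ((3 : Fin 4) : ℕ) =
        (8 * m + 3) ^ 3 * (2 * (4 * m + 1)) := by
      apply Nat.sub_eq_of_eq_add
      have : ((3 : Fin 4) : ℕ) = 3 := rfl
      rw [this]
      ring
    have e4 : 8 * m + 3 - 1 = 2 * (4 * m + 1) := by omega
    rw [hg, e0, e1, e2, e3, e4] at h1
    exact card_sylow T (a := 7) (m := ((4 * m + 1) * (2 * m + 1) * (2 * (16 * m ^ 2 + 12 * m + 2) + 1)) *
      ((8 * m + 3) * ((4 * m + 1) * (2 * (32 * m ^ 2 + 28 * m + 6) + 1))) *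
      ((8 * m + 3) ^ 2 * ((4 * m + 1) * (2 * m + 1))) * (8 * m + 3) ^ 3) (by
        apply Nat.eq_of_mul_eq_mul_left (show 0 < 2 * (2 * (4 * m + 1)) by positivity)
        rw [mul_assoc 2 (2 * (4 * m + 1)), h1]; ring)
        ((((((odd_4m1 m).mul (odd_a m)).mul (odd_a _)).mul (ho'.mul ((odd_4m1 m).mul (odd_a _)))).mul
          (ho'.pow.mul ((odd_4m1 m).mul (odd_a m)))).mul ho'.pow)
  · obtain ⟨m, hm⟩ : ∃ m, Fintype.card F = 8 * m + 5 := ⟨Fintype.card F / 8, by omega⟩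
    have ho' : Odd (8 * m + 5) := by rw [← hm]; exact ho
    rw [hm, Fin.prod_univ_four] at h1
    have hg : Nat.gcd 4 (8 * m + 5 - 1) = 4 := Nat.gcd_eq_left ⟨2 * m + 1, by omega⟩
    have e0 : (8 * m + 5) ^ 4 - (8 * m + 5) ^ ((0 : Fin 4) : ℕ) =
        16 * ((4 * m + 3) * (2 * m + 1) * (2 * (16 * m ^ 2 + 20 * m + 6) + 1)) := (ar5 m).2
    have e1 : (8 * m + 5) ^ 4 - (8 * m + 5) ^ ((1 : Fin 4) : ℕ) =
        (8 * m + 5) * (4 * (2 * m + 1) * (2 * (32 * m ^ 2 + 44 * m + 15) + 1)) := by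
      apply Nat.sub_eq_of_eq_add
      simp only [Fin.val_one, pow_one]
      ring
    have e2 : (8 * m + 5) ^ 4 - (8 * m + 5) ^ ((2 : Fin 4) : ℕ) =
        (8 * m + 5) ^ 2 * (8 * ((4 * m + 3) * (2 * m + 1))) := by
      apply Nat.sub_eq_of_eq_add
      simp only [Fin.val_two]
      ring
    have e3 : (8 * m + 5) ^ 4 - (8 * m + 5) ^ ((3 : Fin 4) : ℕ) =
        (8 * m + 5) ^ 3 * (4 * (2 * m + 1)) := by
      apply Nat.sub_eq_of_eq_add
      have : ((3 : Fin 4) : ℕ) = 3 := rfl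
      rw [this]
      ring
    have e4 : 8 * m + 5 - 1 = 4 * (2 * m + 1) := by omega
    rw [hg, e0, e1, e2, e3, e4] at h1
    exact card_sylow T (a := 7) (m := ((4 * m + 3) * (2 * m + 1) * (2 * (16 * m ^ 2 + 20 * m + 6) + 1)) *
      ((8 * m + 5) * ((2 * m + 1) * (2 * (32 * m ^ 2 + 44 * m + 15) + 1))) *
      ((8 * m + 5) ^ 2 * ((4 * m + 3) * (2 * m + 1))) * (8 * m + 5) ^ 3) (by
        apply Nat.eq_of_mul_eq_mul_left (show 0 < 4 * (4 * (2 * m + 1)) by positivity)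
        rw [mul_assoc 4 (4 * (2 * m + 1)), h1]; ring)
        ((((((odd_4m3 m).mul (odd_a m)).mul (odd_a _)).mul (ho'.mul ((odd_a m).mul (odd_a _)))).mul
          (ho'.pow.mul ((odd_4m3 m).mul (odd_a m)))).mul ho'.pow)

theorem psu4 {G : Type*} [Group G] [Finite G] (T : Sylow 2 G) {F : Type*} [Field F] [Fintype F] {q : ℕ}
    (hF : Fintype.card F = q ^ 2) (e : G ≃* PSU 4 F q) (hq : q % 8 = 3 ∨ q % 8 = 5) : Nat.card T = 128 := by
  have h1 := Cfsg.Agent.S0280.result hF 4 (by norm_num)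
  rw [← Nat.card_congr e.toEquiv, Finset.prod_range_succ, Finset.prod_range_succ, Finset.prod_range_succ,
    Finset.prod_range_succ, Finset.prod_range_zero, if_pos (by decide), if_neg (by decide), if_pos (by decide),
    if_neg (by decide)] at h1
  norm_num at h1
  rcases hq with hq | hq
  · obtain ⟨m, rfl⟩ : ∃ m, q = 8 * m + 3 := ⟨q / 8, by omega⟩
    have ho' : Odd (8 * m + 3) := ⟨4 * m + 1, by ring⟩
    have hg : Nat.gcd 4 (8 * m + 3 + 1) = 4 := Nat.gcd_eq_left ⟨2 * m + 1, by omega⟩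
    have e3 : (8 * m + 3) ^ 3 + 1 = 4 * (2 * m + 1) * (2 * (32 * m ^ 2 + 20 * m + 3) + 1) := by ring
    have e4 : 8 * m + 3 + 1 = 4 * (2 * m + 1) := by omega
    rw [hg, (ar3 m).1, (ar3 m).2, e3, e4] at h1
    exact card_sylow T (a := 7) (m := (8 * m + 3) ^ 6 * ((4 * m + 1) * (2 * m + 1)) *
      ((2 * m + 1) * (2 * (32 * m ^ 2 + 20 * m + 3) + 1)) *
      ((4 * m + 1) * (2 * m + 1) * (2 * (16 * m ^ 2 + 12 * m + 2) + 1))) (by
        apply Nat.eq_of_mul_eq_mul_left (show 0 < 4 * (4 * (2 * m + 1)) by positivity)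
        rw [mul_assoc 4 (4 * (2 * m + 1)), h1]; ring)
        (((ho'.pow.mul ((odd_4m1 m).mul (odd_a m))).mul ((odd_a m).mul (odd_a _))).mul
          (((odd_4m1 m).mul (odd_a m)).mul (odd_a _)))
  · obtain ⟨m, rfl⟩ : ∃ m, q = 8 * m + 5 := ⟨q / 8, by omega⟩
    have ho' : Odd (8 * m + 5) := ⟨4 * m + 2, by ring⟩
    have hg : Nat.gcd 4 (8 * m + 5 + 1) = 2 := by
      have : 8 * m + 5 + 1 = 4 * (2 * m + 1) + 2 := by omega
      rw [this, gcd_four]
    have e3 : (8 * m + 5) ^ 3 + 1 = 2 * (4 * m + 3) * (2 * (32 * m ^ 2 + 36 * m + 10) + 1) := by ring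
    have e4 : 8 * m + 5 + 1 = 2 * (4 * m + 3) := by omega
    rw [hg, (ar5 m).1, (ar5 m).2, e3, e4] at h1
    exact card_sylow T (a := 7) (m := (8 * m + 5) ^ 6 * ((4 * m + 3) * (2 * m + 1)) *
      ((4 * m + 3) * (2 * (32 * m ^ 2 + 36 * m + 10) + 1)) *
      ((4 * m + 3) * (2 * m + 1) * (2 * (16 * m ^ 2 + 20 * m + 6) + 1))) (by
        apply Nat.eq_of_mul_eq_mul_left (show 0 < 2 * (2 * (4 * m + 3)) by positivity)
        rw [mul_assoc 2 (2 * (4 * m + 3)), h1]; ring)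
        (((ho'.pow.mul ((odd_4m3 m).mul (odd_a m))).mul ((odd_4m3 m).mul (odd_a _))).mul
          (((odd_4m3 m).mul (odd_a m)).mul (odd_a _)))

theorem psu34 {G : Type*} [Group G] [Finite G] (T : Sylow 2 G) {F : Type*} [Field F] [Fintype F]
    (hF : Fintype.card F = 16) (e : G ≃* PSU 3 F 4) : Nat.card T = 64 := by
  have h1 := Cfsg.Agent.S0280.result (F := F) (q := 4) (by rw [hF]; norm_num) 3 (by norm_num)
  rw [← Nat.card_congr e.toEquiv, Finset.prod_range_succ, Finset.prod_range_succ, Finset.prod_range_succ,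
    Finset.prod_range_zero, if_pos (by decide), if_neg (by decide), if_pos (by decide)] at h1
  norm_num at h1
  exact card_sylow T (a := 6) (m := 975) (by omega) (by decide)

theorem psl34 {G : Type*} [Group G] [Finite G] (T : Sylow 2 G) {F : Type*} [Field F] [Fintype F]
    (hF : Fintype.card F = 4) (e : G ≃* Matrix.ProjectiveSpecialLinearGroup (Fin 3) F) : Nat.card T = 64 := by
  have h1 := Cfsg.Agent.S0243.result hF 3 (by norm_num)
  rw [← Nat.card_congr e.toEquiv, Fin.prod_univ_three] at h1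
  norm_num at h1
  exact card_sylow T (a := 6) (m := 315) (by omega) (by decide)

theorem psl28 {G : Type*} [Group G] [Finite G] (T : Sylow 2 G) {F : Type*} [Field F] [Fintype F]
    (hF : Fintype.card F = 8) (e : G ≃* Matrix.ProjectiveSpecialLinearGroup (Fin 2) F) : Nat.card T = 8 := by
  have h1 := Cfsg.Agent.S0243.result hF 2 (by norm_num)
  rw [← Nat.card_congr e.toEquiv, Fin.prod_univ_two] at h1
  norm_num at h1
  exact card_sylow T (a := 3) (m := 63) (by omega) (by decide)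

theorem psl216 {G : Type*} [Group G] [Finite G] (T : Sylow 2 G) {F : Type*} [Field F] [Fintype F]
    (hF : Fintype.card F = 16) (e : G ≃* Matrix.ProjectiveSpecialLinearGroup (Fin 2) F) : Nat.card T = 16 := by
  have h1 := Cfsg.Agent.S0243.result hF 2 (by norm_num)
  rw [← Nat.card_congr e.toEquiv, Fin.prod_univ_two] at h1
  norm_num at h1
  exact card_sylow T (a := 4) (m := 255) (by omega) (by decide)

theorem ree {G : Type*} [Group G] [Finite G] (T : Sylow 2 G) {m : ℕ}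
    (h : Nat.card G = (3 ^ (2 * m + 1)) ^ 3 * (3 ^ (2 * m + 1) - 1) * ((3 ^ (2 * m + 1)) ^ 3 + 1)) :
    Nat.card T = 8 := by
  obtain ⟨k, hk⟩ : ∃ k, 3 ^ (2 * m + 1) = 8 * k + 3 := by
    refine ⟨3 ^ (2 * m + 1) / 8, ?_⟩
    have h1 : 3 ^ (2 * m + 1) % 8 = 3 := by
      rw [pow_succ, pow_mul, Nat.mul_mod, Nat.pow_mod]
      norm_num
    omega
  have ho' : Odd (8 * k + 3) := ⟨4 * k + 1, by ring⟩
  rw [hk] at h
  have e1 : 8 * k + 3 - 1 = 2 * (4 * k + 1) := by omega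
  have e3 : (8 * k + 3) ^ 3 + 1 = 4 * (2 * k + 1) * (2 * (32 * k ^ 2 + 20 * k + 3) + 1) := by ring
  rw [e1, e3] at h
  exact card_sylow T (a := 3) (m := (8 * k + 3) ^ 3 * (4 * k + 1) * ((2 * k + 1) *
    (2 * (32 * k ^ 2 + 20 * k + 3) + 1))) (by rw [h]; ring)
    ((ho'.pow.mul (odd_4m1 k)).mul ((odd_a k).mul (odd_a _)))

theorem alt {G : Type*} [Group G] [Finite G] (T : Sylow 2 G) {n : ℕ} (h8 : 8 ≤ n) (h11 : n ≤ 11)
    (e : G ≃* alternatingGroup (Fin n)) : Nat.card T = 64 ∨ Nat.card T = 128 := by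
  have : Nontrivial (Fin n) := Fin.nontrivial_iff_two_le.2 (by omega)
  have h3 := two_mul_nat_card_alternatingGroup (α := Fin n)
  rw [Nat.card_perm, Nat.card_fin, ← Nat.card_congr e.toEquiv] at h3
  interval_cases n
  · have : (8).factorial = 2 * (2 ^ 6 * 315) := by decide
    left
    exact card_sylow T (a := 6) (m := 315) (by omega) (by decide)
  · have : (9).factorial = 2 * (2 ^ 6 * 2835) := by decide
    left
    exact card_sylow T (a := 6) (m := 2835) (by omega) (by decide)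
  · have : (10).factorial = 2 * (2 ^ 7 * 14175) := by decide
    right
    exact card_sylow T (a := 7) (m := 14175) (by omega) (by decide)
  · have : (11).factorial = 2 * (2 ^ 7 * 155925) := by decide
    right
    exact card_sylow T (a := 7) (m := 155925) (by omega) (by decide)

end Cfsg.Agent.H336.Ord
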